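import Cfsg.Agent.H115.Tits.StmtsC
import Cfsg.Agent.H499.TTSmall
import Cfsg.Agent.NotCT.Orders
import Cfsg.Agent.H489.OutSpor

/-!
# S3414, TABSQ: the alternating, small and sporadic rows (helper164)
-/

set_option autoImplicit false

namespace Cfsg.Agent.H164.TabSq

open Cfsg Cfsg.Agent.H115.Tits Cfsg.Agent.H384.TwoTrans Cfsg.Agent.H499.TT

universe u v w

variable {G : Type u} {Ω : Type v} [Group G] [MulAction G Ω] {T : Subgroup G} {t T₂ : ℕ}

/-- **the alternating groups** -/
theorem row_alt (_D : DatSq Ω T t T₂) {n : ℕ} (hn : 5 ≤ n) (e : ↥T ≃* ↥(alternatingGroup (Fin n))) (h : t + 1 = n) :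
    RowSq T t := by
  left
  rw [Nat.card_congr e.toEquiv, card_alt hn, h]

/-- **`PSL₂(8)`, degree 28** -/
theorem row_psl2_8 (D : DatSq Ω T t T₂) {F : Type w} [Field F] [Fintype F] (hF : Fintype.card F = 8)
    (e : ↥T ≃* Matrix.ProjectiveSpecialLinearGroup (Fin 2) F) (h : t + 1 = 28) : False := by
  have h1 := D.dvd e
  rw [card_out_psl2 (p := 2) (f := 3) (by norm_num) (by norm_num) (by rw [hF]; norm_num) (by norm_num), card_psl2 hF] at h1
  obtain rfl : t = 27 := by omega
  norm_num at h1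

/-- **`PSL₂(9)`, degree 6** -/
theorem row_psl2_9 (_D : DatSq Ω T t T₂) {F : Type w} [Field F] [Fintype F] (hF : Fintype.card F = 9)
    (e : ↥T ≃* Matrix.ProjectiveSpecialLinearGroup (Fin 2) F) (h : t + 1 = 6) : RowSq T t := by
  left
  rw [Nat.card_congr e.toEquiv, card_psl2 hF, h]
  decide

/-- **`PSL₂(11)`, degree 11** -/
theorem row_psl2_11 (D : DatSq Ω T t T₂) {F : Type w} [Field F] [Fintype F] (hF : Fintype.card F = 11)
    (e : ↥T ≃* Matrix.ProjectiveSpecialLinearGroup (Fin 2) F) (h : t + 1 = 11) : False := by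
  have h1 := D.dvd e
  rw [card_out_psl2 (p := 11) (f := 1) (by norm_num) (by norm_num) (by rw [hF]; norm_num) (by norm_num), card_psl2 hF] at h1
  obtain rfl : t = 10 := by omega
  norm_num at h1

/-- **`PSL₄(2)`, degree 8** -/
theorem row_psl4_2 (_D : DatSq Ω T t T₂) {F : Type w} [Field F] [Fintype F] (hF : Fintype.card F = 2)
    (e : ↥T ≃* Matrix.ProjectiveSpecialLinearGroup (Fin 4) F) (h : t + 1 = 8) : RowSq T t := by
  left
  rw [Nat.card_congr e.toEquiv, card_psl4_2 hF, h]
  decide

/-- **`A₇`, degree 15** -/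
theorem row_a7 (D : DatSq Ω T t T₂) (e : ↥T ≃* ↥(alternatingGroup (Fin 7))) (h : t + 1 = 15) : False := by
  have h1 := D.dvd e
  have h2 := card_alt (n := 7) (by norm_num)
  have h3 : (7 : ℕ).factorial = 5040 := by decide
  rw [h3] at h2
  have h4 : Nat.card ↥(alternatingGroup (Fin 7)) = 2520 := by omega
  rw [Cfsg.Agent.H489.card_out_alt (by norm_num) (by norm_num), h4] at h1
  obtain rfl : t = 14 := by omega
  norm_num at h1

/-- the sporadic rows -/
theorem kill (D : DatSq Ω T t T₂) (hs : IsSporadicGroup ↥T) {N : ℕ} (hN : Nat.card T = N)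
    (h : ¬ (t + 1) * (t * t) ∣ N * 2) : False := by
  have := D.A.finG
  have h1 := D.dvd (MulEquiv.refl T)
  rw [hN] at h1
  have h2 := Cfsg.Agent.H489.card_out_sporadic hs
  have h3 : Nat.card (Out ↥T) ∣ 2 := by
    have : Finite (MulAut ↥T) := Finite.of_injective (fun f : MulAut ↥T => (f : ↥T → ↥T)) DFunLike.coe_injective
    have : Finite (Out ↥T) := Quotient.finite _
    have h4 : 0 < Nat.card (Out ↥T) := Nat.card_pos
    generalize Nat.card (Out ↥T) = o at h2 h4
    interval_cases o <;> norm_num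
  exact h (h1.trans (Nat.mul_dvd_mul_left _ h3))

theorem row_m11 (D : DatSq Ω T t T₂) (hs : Spor.IsoM11 ↥T) (h : t + 1 = 11) : False := by
  refine kill D (by simp only [IsSporadicGroup, hs, true_or, or_true]) (NotCT.Orders.m11 hs) ?_
  obtain rfl : t = 10 := by omega
  norm_num

theorem row_m11' (D : DatSq Ω T t T₂) (hs : Spor.IsoM11 ↥T) (h : t + 1 = 12) : False := by
  refine kill D (by simp only [IsSporadicGroup, hs, true_or, or_true]) (NotCT.Orders.m11 hs) ?_
  obtain rfl : t = 11 := by omega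
  norm_num

theorem row_m12 (D : DatSq Ω T t T₂) (hs : Spor.IsoM12 ↥T) (h : t + 1 = 12) : False := by
  refine kill D (by simp only [IsSporadicGroup, hs, true_or, or_true]) (NotCT.Orders.m12 hs) ?_
  obtain rfl : t = 11 := by omega
  norm_num

theorem row_m22 (D : DatSq Ω T t T₂) (hs : Spor.IsoM22 ↥T) (h : t + 1 = 22) : False := by
  refine kill D (by simp only [IsSporadicGroup, hs, true_or, or_true]) (NotCT.Orders.m22 hs) ?_
  obtain rfl : t = 21 := by omega
  norm_num

theorem row_m23 (D : DatSq Ω T t T₂) (hs : Spor.IsoM23 ↥T) (h : t + 1 = 23) : False := by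
  refine kill D (by simp only [IsSporadicGroup, hs, true_or, or_true]) (NotCT.Orders.m23 hs) ?_
  obtain rfl : t = 22 := by omega
  norm_num

theorem row_m24 (D : DatSq Ω T t T₂) (hs : Spor.IsoM24 ↥T) (h : t + 1 = 24) : False := by
  refine kill D (by simp only [IsSporadicGroup, hs, true_or, or_true]) (NotCT.Orders.m24 hs) ?_
  obtain rfl : t = 23 := by omega
  norm_num

theorem row_hs (D : DatSq Ω T t T₂) (hs : Spor.IsoHS ↥T) (h : t + 1 = 176) : False := by
  refine kill D (by simp only [IsSporadicGroup, hs, true_or, or_true]) (NotCT.Orders.hs hs) ?_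
  obtain rfl : t = 175 := by omega
  norm_num

theorem row_co3 (D : DatSq Ω T t T₂) (hs : Spor.IsoCo3 ↥T) (h : t + 1 = 276) : False := by
  refine kill D (by simp only [IsSporadicGroup, hs, true_or, or_true]) (NotCT.Orders.co3 hs) ?_
  obtain rfl : t = 275 := by omega
  norm_num

end Cfsg.Agent.H164.TabSq
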